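import Cfsg.Agent.Omega.SQK.Frame
import Cfsg.Agent.Omega.Quasithin.Row.Chev
import Cfsg.Agent.ChevalleyStructure.SL2Hom
import Cfsg.Agent.ChevalleyStructure.SL2All
import Cfsg.Agent.ChevalleyStructure.NConj
import Cfsg.Agent.S1037

/-!
# Rows `chevTwo`, `e6tTwo` of the table SQK : the elements `x_r(1) x_{-r}(1)` of order 3 for three strongly
orthogonal roots `r`
-/

set_option autoImplicit false

namespace Cfsg.Agent.Omega.SQK.Row.ChevTwo

open Cfsg Cfsg.Lie Cfsg.Agent.ChevalleyStructure Cfsg.Agent.ChevalleyStructure.Elts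
open Cfsg.Agent.Omega.SQK.Rank Cfsg.Agent.Omega.Quasithin.Row

universe u

variable {F : Type u} [Field F] {D : ChevalleyDatum}

/-- `x_r(1) x_{-r}(1)` -/
def th (hD : InList D) (F : Type u) [Field F] (r : ℕ) : GL D.Idx F := xG hD r 1 * xG hD (D.neg r) 1

theorem sl_cube (h2 : (2 : F) = 0) : (SL2Hom.up (1 : F) * SL2Hom.lo 1) ^ 3 = 1 := by
  have h : (1 : F) + 1 = 0 := by rw [← h2]; norm_num
  apply Subtype.ext
  show ((SL2Hom.up (1 : F)).1 * (SL2Hom.lo 1).1) ^ 3 = 1
  have e : (SL2Hom.up (1 : F)).1 * (SL2Hom.lo 1).1 = !![0, 1; 1, 1] := by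
    ext i j
    fin_cases i <;> fin_cases j <;> simp [SL2Hom.up, SL2Hom.lo, Matrix.mul_apply, Fin.sum_univ_two, h]
  rw [e, pow_succ, pow_two]
  ext i j
  fin_cases i <;> fin_cases j <;> simp [Matrix.mul_apply, Fin.sum_univ_two, h]

theorem th_cube (hD : InList D) (h2 : (2 : F) = 0) {r : ℕ} (hr : r < D.nroots) : th hD F r ^ 3 = 1 := by
  have hG := SL2All.good_of_mem D hD r hr
  have e : th hD F r = SL2Hom.phi hG F (SL2Hom.up 1 * SL2Hom.lo 1) := by
    rw [th, map_mul]
    congr 1
    · exact Units.ext ((coe_xG hD r 1).trans (SL2Hom.phi_upper hG _ 1 rfl).symm)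
    · exact Units.ext ((coe_xG hD _ 1).trans (SL2Hom.phi_lower hG _ 1 rfl).symm)
  rw [e, ← map_pow, sl_cube h2, map_one]

theorem xG_sq (hD : InList D) (h2 : (2 : F) = 0) (r : ℕ) : xG hD r (1 : F) * xG hD r 1 = 1 := by
  have h : (1 : F) + 1 = 0 := by rw [← h2]; norm_num
  rw [xG_add, h, xG_zero]

theorem not_commute (hD : InList D) (h2 : (2 : F) = 0) {r : ℕ} (hr : D.IsPosRoot r)
    (hn : D.IsNegRoot (D.neg r)) : ¬ Commute (xG hD r (1 : F)) (th hD F r) := by
  intro hc
  obtain ⟨a, ha⟩ : ∃ a, a = xG hD r (1 : F) := ⟨_, rfl⟩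
  obtain ⟨b, hb⟩ : ∃ b, b = xG hD (D.neg r) (1 : F) := ⟨_, rfl⟩
  have h1 : a * (a * b) = a * b * a := by rw [ha, hb]; exact hc.eq
  have hab : a * b = b * a := by
    have := congrArg (fun x => a⁻¹ * x) h1
    simpa [mul_assoc] using this
  have ha2 : a * a = 1 := by rw [ha]; exact xG_sq hD h2 r
  have hb2 : b * b = 1 := by rw [hb]; exact xG_sq hD h2 _
  have h3 : (a * b) ^ 3 = 1 := by rw [ha, hb]; exact th_cube hD h2 hr.1
  have h4 : (a * b) * (a * b) = 1 := by
    calc (a * b) * (a * b) = a * (b * a) * b := by group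
      _ = a * (a * b) * b := by rw [hab]
      _ = (a * a) * (b * b) := by group
      _ = 1 := by rw [ha2, hb2, mul_one]
  have h5 : a * b = 1 := by
    rw [pow_succ, pow_two, h4, one_mul] at h3
    exact h3
  have h6 : a = b := by
    calc a = a * (b * b) := by rw [hb2, mul_one]
      _ = (a * b) * b := by group
      _ = b := by rw [h5, one_mul]
  have m1 : a ∈ D.borelSubgroup F := by
    rw [ha]
    exact Subgroup.mem_sup_left (xG_mem_posUnipotent hD hr 1)
  have m2 : a ∈ D.negUnipotent F := by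
    rw [h6, hb]
    exact xG_mem_negUnipotent hD hn 1
  have m3 : a ∈ D.borelSubgroup F ⊓ D.negUnipotent F := ⟨m1, m2⟩
  rw [(Cfsg.Agent.S1037.result (F := F) D hD).1, Subgroup.mem_bot, ha] at m3
  exact one_ne_zero ((xG_eq_one_iff hD hr.1 (1 : F)).1 m3)

/-- the roots `r`, `s` are strongly orthogonal -/
structure Orth (D : ChevalleyDatum) (r s : ℕ) : Prop where
  lr : r < D.nroots
  ls : s < D.nroots
  lnr : D.neg r < D.nroots
  lns : D.neg s < D.nroots
  nn : D.neg (D.neg r) = r
  ne1 : s ≠ r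
  ne2 : s ≠ D.neg r
  ne3 : D.neg s ≠ r
  ne4 : D.neg s ≠ D.neg r
  c1 : D.commTerms r s = []
  c2 : D.commTerms r (D.neg s) = []
  c3 : D.commTerms (D.neg r) s = []
  c4 : D.commTerms (D.neg r) (D.neg s) = []

theorem cm (hD : InList D) {r s : ℕ} (hr : r < D.nroots) (hs : s < D.nroots) (hrs : s ≠ r)
    (hneg : s ≠ D.neg r) (hc : D.commTerms r s = []) : Commute (xG hD r (1 : F)) (xG hD s 1) :=
  (ChevBase.comm_of_nil hD hr hs hrs hneg hc 1 1).symm

theorem Orth.x_th (hD : InList D) {r s : ℕ} (h : Orth D r s) : Commute (xG hD r (1 : F)) (th hD F s) :=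
  (cm hD h.lr h.ls h.ne1 h.ne2 h.c1).mul_right (cm hD h.lr h.lns h.ne3 h.ne4 h.c2)

theorem Orth.nx_th (hD : InList D) {r s : ℕ} (h : Orth D r s) :
    Commute (xG hD (D.neg r) (1 : F)) (th hD F s) :=
  (cm hD h.lnr h.ls h.ne2 (by rw [h.nn]; exact h.ne1) h.c3).mul_right
    (cm hD h.lnr h.lns h.ne4 (by rw [h.nn]; exact h.ne3) h.c4)

theorem Orth.th_th (hD : InList D) {r s : ℕ} (h : Orth D r s) : Commute (th hD F r) (th hD F s) :=
  (h.x_th hD).mul_left (h.nx_th hD)

/-- three strongly orthogonal positive roots -/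
structure Tri (D : ChevalleyDatum) (r s t : ℕ) : Prop where
  p1 : D.IsPosRoot r
  p2 : D.IsPosRoot s
  p3 : D.IsPosRoot t
  n1 : D.IsNegRoot (D.neg r)
  n2 : D.IsNegRoot (D.neg s)
  n3 : D.IsNegRoot (D.neg t)
  rs : Orth D r s
  rt : Orth D r t
  sr : Orth D s r
  st : Orth D s t
  tr : Orth D t r
  ts : Orth D t s

theorem th_mem_group (hD : InList D) (r : ℕ) : th hD F r ∈ D.group F :=
  mul_mem (xG_mem_group hD _ _) (xG_mem_group hD _ _)

theorem not_prank (hD : InList D) (h2 : (2 : F) = 0) {r s t : ℕ} (h : Tri D r s t) {L : Subgroup (GL D.Idx F)}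
    (h1 : th hD F r ∈ L) (h3 : th hD F s ∈ L) (h4 : th hD F t ∈ L) : ¬ PRankLE 3 2 ↥L := by
  have : Fact (Nat.Prime 3) := ⟨Nat.prime_three⟩
  let a : Fin 3 → ↥L := ![⟨_, h1⟩, ⟨_, h3⟩, ⟨_, h4⟩]
  have crs : Commute (a 0) (a 1) := Subtype.ext (h.rs.th_th hD).eq
  have crt : Commute (a 0) (a 2) := Subtype.ext (h.rt.th_th hD).eq
  have cst : Commute (a 1) (a 2) := Subtype.ext (h.st.th_th hD).eq
  refine not_of_pairs' 3 a (fun i => ?_) (fun i j => ?_) L.subtype
    ![xG hD r 1, xG hD s 1, xG hD t 1] (fun i j hij => ?_) (fun i => ?_) (by decide)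
  · fin_cases i
    · exact Subtype.ext (th_cube hD h2 h.p1.1)
    · exact Subtype.ext (th_cube hD h2 h.p2.1)
    · exact Subtype.ext (th_cube hD h2 h.p3.1)
  · fin_cases i <;> fin_cases j
    · exact Commute.refl _
    · exact crs
    · exact crt
    · exact crs.symm
    · exact Commute.refl _
    · exact cst
    · exact crt.symm
    · exact cst.symm
    · exact Commute.refl _
  · fin_cases i <;> fin_cases j
    · exact absurd rfl hij
    · exact h.rs.x_th hD
    · exact h.rt.x_th hD
    · exact h.sr.x_th hD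
    · exact absurd rfl hij
    · exact h.st.x_th hD
    · exact h.tr.x_th hD
    · exact h.ts.x_th hD
    · exact absurd rfl hij
  · fin_cases i
    · exact not_commute hD h2 h.p1 h.n1
    · exact not_commute hD h2 h.p2 h.n2
    · exact not_commute hD h2 h.p3 h.n3

/-! ### The tables -/

theorem orth_of {r s : ℕ} (h : r < D.nroots ∧ s < D.nroots ∧ D.neg r < D.nroots ∧ D.neg s < D.nroots ∧
    D.neg (D.neg r) = r ∧ s ≠ r ∧ s ≠ D.neg r ∧ D.neg s ≠ r ∧ D.neg s ≠ D.neg r ∧ D.commTerms r s = [] ∧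
    D.commTerms r (D.neg s) = [] ∧ D.commTerms (D.neg r) s = [] ∧ D.commTerms (D.neg r) (D.neg s) = []) :
    Orth D r s := by
  obtain ⟨h1, h2, h3, h4, h5, h6, h7, h8, h9, h10, h11, h12, h13⟩ := h
  exact ⟨h1, h2, h3, h4, h5, h6, h7, h8, h9, h10, h11, h12, h13⟩

theorem tri_F4 : Tri chevF4 47 41 30 where
  p1 := by decide +kernel
  p2 := by decide +kernel
  p3 := by decide +kernel
  n1 := by decide +kernel
  n2 := by decide +kernel
  n3 := by decide +kernel
  rs := orth_of (by decide +kernel)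
  rt := orth_of (by decide +kernel)
  sr := orth_of (by decide +kernel)
  st := orth_of (by decide +kernel)
  tr := orth_of (by decide +kernel)
  ts := orth_of (by decide +kernel)

theorem tri_E6 : Tri chevE6 71 60 44 where
  p1 := by decide +kernel
  p2 := by decide +kernel
  p3 := by decide +kernel
  n1 := by decide +kernel
  n2 := by decide +kernel
  n3 := by decide +kernel
  rs := orth_of (by decide +kernel)
  rt := orth_of (by decide +kernel)
  sr := orth_of (by decide +kernel)
  st := orth_of (by decide +kernel)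
  tr := orth_of (by decide +kernel)
  ts := orth_of (by decide +kernel)

theorem tri_E7 : Tri chevE7 125 92 87 where
  p1 := by decide +kernel
  p2 := by decide +kernel
  p3 := by decide +kernel
  n1 := by decide +kernel
  n2 := by decide +kernel
  n3 := by decide +kernel
  rs := orth_of (by decide +kernel)
  rt := orth_of (by decide +kernel)
  sr := orth_of (by decide +kernel)
  st := orth_of (by decide +kernel)
  tr := orth_of (by decide +kernel)
  ts := orth_of (by decide +kernel)

theorem tri_E8 : Tri chevE8 239 226 159 where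
  p1 := by decide +kernel
  p2 := by decide +kernel
  p3 := by decide +kernel
  n1 := by decide +kernel
  n2 := by decide +kernel
  n3 := by decide +kernel
  rs := orth_of (by decide +kernel)
  rt := orth_of (by decide +kernel)
  sr := orth_of (by decide +kernel)
  st := orth_of (by decide +kernel)
  tr := orth_of (by decide +kernel)
  ts := orth_of (by decide +kernel)

theorem two_eq_zero {F : Type*} [Field F] [Fintype F] {a : ℕ} (hc : Fintype.card F = 2 ^ a) : (2 : F) = 0 := by
  have ha : a ≠ 0 := by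
    rintro rfl
    have h1 : 1 < Fintype.card F := Fintype.one_lt_card
    rw [hc, pow_zero] at h1
    omega
  have : CharP F 2 := by
    have : Fact (Nat.Prime 2) := ⟨Nat.prime_two⟩
    exact charP_of_card_eq_prime_pow hc
  have h := CharP.cast_eq_zero F 2
  exact_mod_cast h

/-- **`F₄(q)`, `E₆(q)`, `E₇(q)`, `E₈(q)`, `q` even** -/
theorem chevTwo : Frame.RowChevTwo := by
  intro D hD F _ _ a hc
  have h2 := two_eq_zero hc
  simp only [List.mem_cons, List.not_mem_nil, or_false] at hD
  rcases hD with rfl | rfl | rfl | rfl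
  · exact not_prank (by simp only [InList, List.mem_cons, true_or, or_true]) h2 tri_F4
      (th_mem_group _ _) (th_mem_group _ _) (th_mem_group _ _)
  · exact not_prank (by simp only [InList, List.mem_cons, true_or, or_true]) h2 tri_E6
      (th_mem_group _ _) (th_mem_group _ _) (th_mem_group _ _)
  · exact not_prank (by simp only [InList, List.mem_cons, true_or, or_true]) h2 tri_E7
      (th_mem_group _ _) (th_mem_group _ _) (th_mem_group _ _)
  · exact not_prank (by simp only [InList, List.mem_cons, true_or, or_true]) h2 tri_E8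
      (th_mem_group _ _) (th_mem_group _ _) (th_mem_group _ _)

end Cfsg.Agent.Omega.SQK.Row.ChevTwo
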