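import Cfsg.Agent.Omega.SQK.Frame
import Cfsg.Agent.Omega.SQK.ClsAlt
import Cfsg.Agent.Omega.SQK.ClsLinear
import Cfsg.Agent.Omega.SQK.ClsSymp
import Cfsg.Agent.Omega.SQK.RowPSU2
import Cfsg.Agent.Omega.Quasithin.Row.Psl
import Cfsg.Agent.Omega.Quasithin.Row.Psp
import Cfsg.Agent.Omega.Quasithin.Row.Psu

/-!
The rows `RowAlt`, `RowPSLOdd`, `RowPSLTwo`, `RowPSpOdd`, `RowPSpTwo`, `RowPSUOdd` of the list SQK.
-/

set_option autoImplicit false

namespace Cfsg.Agent.Omega.SQK.Row.Classical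

open Cfsg Cfsg.Agent.Omega.SQK

theorem charP_of_card {F : Type*} [Field F] [Fintype F] {r a : ℕ} (hr : r.Prime)
    (h : Fintype.card F = r ^ a) : CharP F r := by
  obtain ⟨p, hp⟩ := CharP.exists F
  obtain ⟨n, hpp, hn⟩ := FiniteField.card F p
  have h1 : p ∣ r ^ a := by
    rw [← h, hn]
    exact dvd_pow_self p n.pos.ne'
  have h2 : p = r := (Nat.prime_dvd_prime_iff_eq hpp hr).1 (hpp.dvd_of_dvd_pow h1)
  exact h2 ▸ hp

theorem two_ne_zero_of_card {F : Type*} [Field F] [Fintype F] {r a : ℕ} (hr : r.Prime) (hr2 : r ≠ 2)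
    (h : Fintype.card F = r ^ a) : (2 : F) ≠ 0 := by
  have hc := charP_of_card hr h
  have h1 := CharP.cast_eq_zero_iff F r 2
  intro h0
  exact hr2 ((Nat.prime_dvd_prime_iff_eq hr Nat.prime_two).1 (h1.1 (by exact_mod_cast h0)))

theorem alt : Frame.RowAlt := fun _ hn => Cls.alt hn

theorem pslTwo : Frame.RowPSLTwo := by
  intro F _ _ a n hF hn h
  by_cases h6 : 6 ≤ n
  · exact ⟨3, Nat.prime_three, by norm_num, Cls.psl_six h6⟩
  · have ha : 2 ≤ a := by omega
    obtain ⟨b, rfl⟩ : ∃ b, a = b + 2 := ⟨a - 2, by omega⟩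
    refine RowPSU2.psl n ?_ ?_ hn
    · rw [hF, pow_succ]
      exact even_two.mul_left _
    · rw [hF, pow_add]
      have := Nat.one_le_two_pow (n := b)
      omega

theorem pspTwo : Frame.RowPSpTwo := fun _ _ _ _ _ _ hm => Cls.psp hm

theorem pslOdd : Frame.RowPSLOdd := by
  intro F _ _ r a n hr _ hF hn h
  have hc := charP_of_card hr hF
  have := Fact.mk hr
  obtain ⟨m, rfl⟩ : ∃ m, n = m + 1 := ⟨n - 1, by omega⟩
  exact Cfsg.Agent.Omega.Quasithin.PslRow.not_prankLE (by simpa using h)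

theorem pspOdd : Frame.RowPSpOdd := by
  intro F _ _ r a m hr _ hF hm
  have hc := charP_of_card hr hF
  exact Cfsg.Agent.Omega.Quasithin.PspRow.not_prankLE hr hm

theorem psuOdd : Frame.RowPSUOdd := by
  intro F _ _ q r a n hr hr2 hq hF hn h
  have hF' : Fintype.card F = r ^ (a * 2) := by rw [hF, hq, pow_mul]
  have hc := charP_of_card hr hF'
  obtain ⟨m, rfl⟩ : ∃ m, n = m + 2 := ⟨n - 2, by omega⟩
  have ha : a ≠ 0 := by
    rintro rfl
    have h1 := Fintype.one_lt_card (α := F)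
    rw [hF', zero_mul, pow_zero] at h1
    omega
  refine Cfsg.Agent.Omega.Quasithin.PsuRow.not_prankLE hF (two_ne_zero_of_card hr hr2 hF') ?_
  rw [hq, ← pow_mul, Nat.pow_lt_pow_iff_right hr.one_lt]
  rcases h with h | h
  · have h1 : 1 * (m + 1) ≤ a * (m + 1) := Nat.mul_le_mul_right _ (by omega)
    omega
  · have h1 : 2 * (m + 1) ≤ a * (m + 1) := Nat.mul_le_mul_right _ h
    omega

end Cfsg.Agent.Omega.SQK.Row.Classical
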