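import Cfsg.Agent.Omega.SQK.Row.ChevTwo

/-!
# Row `e6tTwo` of the table SQK : `x_r(1) x_{-r}(1)` for `r = p₄`, `r = θ` (the highest root), and the pair `p₁, p₆`
-/

set_option autoImplicit false

namespace Cfsg.Agent.Omega.SQK.Row.E6tTwo

open Cfsg Cfsg.Lie Cfsg.Agent.ChevalleyStructure Cfsg.Agent.ChevalleyStructure.Elts
open Cfsg.Agent.ChevalleyStructure.NConj (nS)
open Cfsg.Agent.Omega.SQK.Rank Cfsg.Agent.Omega.Quasithin.Row Cfsg.Agent.Omega.SQK.Row.ChevTwo

theorem hE : InList chevE6 := by simp only [InList, List.mem_cons, true_or, or_true]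

variable {K : Type} [Field K] {q : ℕ}

theorem mem_word {w : List (ℕ × K)} (hw : w ∈ e6Words K q) : wordG hE w ∈ twistedE6 K q :=
  Subgroup.subset_closure ⟨w, hw, coe_wordG hE w⟩

theorem mem_single {r : ℕ} (hr : r ∈ [e6p2, e6m2, e6p4, e6m4]) : xG hE r (1 : K) ∈ twistedE6 K q := by
  have h : wordG hE [(r, (1 : K))] ∈ twistedE6 K q := mem_word (Or.inl ⟨1, one_pow _, r, hr, rfl⟩)
  rwa [wordG_cons, wordG_nil, mul_one] at h

theorem mem_pair {r s : ℕ} (hr : (r, s) ∈ [(e6p1, e6p6), (e6m1, e6m6), (e6p3, e6p5), (e6m3, e6m5)]) :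
    xG hE r (1 : K) * xG hE s 1 ∈ twistedE6 K q := by
  have h : wordG hE [(r, (1 : K)), (s, (1 : K) ^ q)] ∈ twistedE6 K q := mem_word (Or.inr ⟨1, (r, s), hr, rfl⟩)
  rwa [one_pow, wordG_cons, wordG_cons, wordG_nil, mul_one] at h

theorem neg_inv_one (h2 : (2 : K) = 0) : (-(1 : K)⁻¹) = 1 := by
  have h : (1 : K) + 1 = 0 := by rw [← h2]; norm_num
  rw [inv_one]
  exact neg_eq_of_add_eq_zero_left h

theorem nG_eq (h2 : (2 : K) = 0) (r : ℕ) :
    nG hE r (1 : K) = xG hE r 1 * (xG hE (chevE6.neg r) 1 * xG hE r 1) := by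
  rw [nG_def, neg_inv_one h2]

theorem nG_mul (h2 : (2 : K) = 0) {r s : ℕ} (h : Orth chevE6 r s) :
    nG hE r (1 : K) * nG hE s 1 =
      (xG hE r 1 * xG hE s 1) * ((xG hE (chevE6.neg r) 1 * xG hE (chevE6.neg s) 1) * (xG hE r 1 * xG hE s 1)) := by
  rw [nG_eq h2, nG_eq h2]
  obtain ⟨a, ha⟩ : ∃ a, a = xG hE r (1 : K) := ⟨_, rfl⟩
  obtain ⟨a', ha'⟩ : ∃ a', a' = xG hE (chevE6.neg r) (1 : K) := ⟨_, rfl⟩
  obtain ⟨b, hb⟩ : ∃ b, b = xG hE s (1 : K) := ⟨_, rfl⟩
  obtain ⟨b', hb'⟩ : ∃ b', b' = xG hE (chevE6.neg s) (1 : K) := ⟨_, rfl⟩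
  have c1 : a * b = b * a := by rw [ha, hb]; exact (cm hE h.lr h.ls h.ne1 h.ne2 h.c1).eq
  have c2 : a * b' = b' * a := by rw [ha, hb']; exact (cm hE h.lr h.lns h.ne3 h.ne4 h.c2).eq
  have c3 : a' * b = b * a' := by
    rw [ha', hb]; exact (cm hE h.lnr h.ls h.ne2 (by rw [h.nn]; exact h.ne1) h.c3).eq
  rw [← ha, ← ha', ← hb, ← hb']
  calc a * (a' * a) * (b * (b' * b)) = a * a' * (a * b) * b' * b := by group
    _ = a * (a' * b) * (a * b') * b := by rw [c1]; group
    _ = a * b * a' * b' * (a * b) := by rw [c3, c2]; group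
    _ = _ := by group

/-- `n x_{±s}(1) n⁻¹ = x_{±s'}(1)` -/
def Mv (K : Type) [Field K] (n : GL chevE6.Idx K) (s s' : ℕ) : Prop :=
  n * xG hE s (1 : K) * n⁻¹ = xG hE s' 1 ∧ n * xG hE (chevE6.neg s) (1 : K) * n⁻¹ = xG hE (chevE6.neg s') 1

theorem mv (h2 : (2 : K) = 0) {i s s' : ℕ} (hi : i < chevE6.rank) (hs : s < chevE6.nroots)
    (h : chevE6.reflectRoot i s = s') : Mv K (nS hE K i) s s' := by
  obtain ⟨η, hη, h3, h4⟩ := NConj.conj_x (F := K) hE hi hs
  have h1 : η = 1 := by
    rcases hη with h | h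
    · exact h
    · rw [h]
      have h : (1 : K) + 1 = 0 := by rw [← h2]; norm_num
      exact neg_eq_of_add_eq_zero_left h
  have h5 := h3 1
  have h6 := h4 1
  rw [h1, one_mul, h] at h5 h6
  exact ⟨h5, h6⟩

theorem Mv.mul {n m : GL chevE6.Idx K} {s s' s'' : ℕ} (h : Mv K n s s') (h' : Mv K m s' s'') :
    Mv K (m * n) s s'' := by
  refine ⟨?_, ?_⟩
  · rw [← h'.1, ← h.1]; group
  · rw [← h'.2, ← h.2]; group

theorem Mv.th {n : GL chevE6.Idx K} {s s' : ℕ} (h : Mv K n s s') : n * th hE K s * n⁻¹ = th hE K s' := by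
  rw [ChevTwo.th, ChevTwo.th, ← h.1, ← h.2]
  group

/-- the element which moves `p₂` to the highest root -/
noncomputable def nn (K : Type) [Field K] : GL chevE6.Idx K :=
  nS hE K 1 * (nS hE K 3 * (nS hE K 4 * (nS hE K 2 * (nS hE K 3 * (nS hE K 5 * (nS hE K 0 * (nS hE K 4 *
    (nS hE K 2 * nS hE K 3))))))))

theorem mv_nn (h2 : (2 : K) = 0) : Mv K (nn K) 46 71 := by
  have m1 := mv h2 (i := 3) (s := 46) (s' := 47) (by decide) (by decide) (by decide +kernel)
  have m2 := mv h2 (i := 2) (s := 47) (s' := 50) (by decide) (by decide) (by decide +kernel)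
  have m3 := mv h2 (i := 4) (s := 50) (s' := 51) (by decide) (by decide) (by decide +kernel)
  have m4 := mv h2 (i := 0) (s := 51) (s' := 62) (by decide) (by decide) (by decide +kernel)
  have m5 := mv h2 (i := 5) (s := 62) (s' := 63) (by decide) (by decide) (by decide +kernel)
  have m6 := mv h2 (i := 3) (s := 63) (s' := 65) (by decide) (by decide) (by decide +kernel)
  have m7 := mv h2 (i := 2) (s := 65) (s' := 68) (by decide) (by decide) (by decide +kernel)
  have m8 := mv h2 (i := 4) (s := 68) (s' := 69) (by decide) (by decide) (by decide +kernel)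
  have m9 := mv h2 (i := 3) (s := 69) (s' := 70) (by decide) (by decide) (by decide +kernel)
  have m10 := mv h2 (i := 1) (s := 70) (s' := 71) (by decide) (by decide) (by decide +kernel)
  exact ((((((((m1.mul m2).mul m3).mul m4).mul m5).mul m6).mul m7).mul m8).mul m9).mul m10

theorem o53 : Orth chevE6 37 42 := orth_of (by decide +kernel)
theorem o35 : Orth chevE6 42 37 := orth_of (by decide +kernel)
theorem o61 : Orth chevE6 36 56 := orth_of (by decide +kernel)
theorem o16 : Orth chevE6 56 36 := orth_of (by decide +kernel)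

theorem nS_mem1 (h2 : (2 : K) = 0) : nS hE K 1 ∈ twistedE6 K q := by
  have e : nS hE K 1 = nG hE 46 (1 : K) := by
    show nG hE (chevE6.simple 1) (1 : K) = _
    rw [show chevE6.simple 1 = 46 by decide +kernel]
  rw [e, nG_eq h2, show chevE6.neg 46 = 25 by decide +kernel]
  exact mul_mem (mem_single (by decide)) (mul_mem (mem_single (by decide)) (mem_single (by decide)))

theorem nS_mem3 (h2 : (2 : K) = 0) : nS hE K 3 ∈ twistedE6 K q := by
  have e : nS hE K 3 = nG hE 39 (1 : K) := by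
    show nG hE (chevE6.simple 3) (1 : K) = _
    rw [show chevE6.simple 3 = 39 by decide +kernel]
  rw [e, nG_eq h2, show chevE6.neg 39 = 32 by decide +kernel]
  exact mul_mem (mem_single (by decide)) (mul_mem (mem_single (by decide)) (mem_single (by decide)))

theorem swap_mem {r s : ℕ} (h : Orth chevE6 r s) (hm : xG hE r (1 : K) * xG hE s 1 ∈ twistedE6 K q) :
    xG hE s (1 : K) * xG hE r 1 ∈ twistedE6 K q := by
  rwa [← (cm hE h.lr h.ls h.ne1 h.ne2 h.c1).eq]

theorem nS_mem42 (h2 : (2 : K) = 0) : nS hE K 4 * nS hE K 2 ∈ twistedE6 K q := by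
  have e : nS hE K 4 * nS hE K 2 = nG hE 37 (1 : K) * nG hE 42 1 := by
    show nG hE (chevE6.simple 4) (1 : K) * nG hE (chevE6.simple 2) (1 : K) = _
    rw [show chevE6.simple 4 = 37 by decide +kernel, show chevE6.simple 2 = 42 by decide +kernel]
  have n1 : chevE6.neg 37 = 34 := by decide +kernel
  have n2 : chevE6.neg 42 = 29 := by decide +kernel
  have o' : Orth chevE6 29 34 := orth_of (by decide +kernel)
  rw [e, nG_mul h2 o53, n1, n2]
  have m1 : xG hE 37 (1 : K) * xG hE 42 1 ∈ twistedE6 K q := swap_mem o35 (mem_pair (by decide))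
  have m2 : xG hE 34 (1 : K) * xG hE 29 1 ∈ twistedE6 K q := swap_mem o' (mem_pair (by decide))
  exact mul_mem m1 (mul_mem m2 m1)

theorem nS_mem50 (h2 : (2 : K) = 0) : nS hE K 5 * nS hE K 0 ∈ twistedE6 K q := by
  have e : nS hE K 5 * nS hE K 0 = nG hE 36 (1 : K) * nG hE 56 1 := by
    show nG hE (chevE6.simple 5) (1 : K) * nG hE (chevE6.simple 0) (1 : K) = _
    rw [show chevE6.simple 5 = 36 by decide +kernel, show chevE6.simple 0 = 56 by decide +kernel]
  have n1 : chevE6.neg 36 = 35 := by decide +kernel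
  have n2 : chevE6.neg 56 = 15 := by decide +kernel
  have o' : Orth chevE6 15 35 := orth_of (by decide +kernel)
  rw [e, nG_mul h2 o61, n1, n2]
  have m1 : xG hE 36 (1 : K) * xG hE 56 1 ∈ twistedE6 K q := swap_mem o16 (mem_pair (by decide))
  have m2 : xG hE 35 (1 : K) * xG hE 15 1 ∈ twistedE6 K q := swap_mem o' (mem_pair (by decide))
  exact mul_mem m1 (mul_mem m2 m1)

theorem nn_mem (h2 : (2 : K) = 0) : nn K ∈ twistedE6 K q := by
  have e : nn K = nS hE K 1 * (nS hE K 3 * ((nS hE K 4 * nS hE K 2) * (nS hE K 3 * ((nS hE K 5 * nS hE K 0) *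
      ((nS hE K 4 * nS hE K 2) * nS hE K 3))))) := by
    rw [nn]
    group
  rw [e]
  exact mul_mem (nS_mem1 h2) (mul_mem (nS_mem3 h2) (mul_mem (nS_mem42 h2) (mul_mem (nS_mem3 h2)
    (mul_mem (nS_mem50 h2) (mul_mem (nS_mem42 h2) (nS_mem3 h2))))))

theorem th46_mem : th hE K 46 ∈ twistedE6 K q := by
  rw [th, show chevE6.neg 46 = 25 by decide +kernel]
  exact mul_mem (mem_single (by decide)) (mem_single (by decide))

theorem th39_mem : th hE K 39 ∈ twistedE6 K q := by
  rw [th, show chevE6.neg 39 = 32 by decide +kernel]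
  exact mul_mem (mem_single (by decide)) (mem_single (by decide))

theorem th71_mem (h2 : (2 : K) = 0) : th hE K 71 ∈ twistedE6 K q := by
  rw [← (mv_nn h2).th]
  exact mul_mem (mul_mem (nn_mem h2) th46_mem) (inv_mem (nn_mem h2))

theorem thp_mem : th hE K 56 * th hE K 36 ∈ twistedE6 K q := by
  have n1 : chevE6.neg 36 = 35 := by decide +kernel
  have n2 : chevE6.neg 56 = 15 := by decide +kernel
  have o' : Orth chevE6 15 36 := orth_of (by decide +kernel)
  have e : th hE K 56 * th hE K 36 = (xG hE 56 1 * xG hE 36 1) * (xG hE 15 1 * xG hE 35 1) := by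
    rw [th, th, n1, n2]
    have c : xG hE 15 (1 : K) * xG hE 36 1 = xG hE 36 1 * xG hE 15 1 :=
      (cm hE o'.lr o'.ls o'.ne1 o'.ne2 o'.c1).eq
    calc xG hE 56 (1 : K) * xG hE 15 1 * (xG hE 36 1 * xG hE 35 1) =
        xG hE 56 1 * (xG hE 15 1 * xG hE 36 1) * xG hE 35 1 := by group
      _ = _ := by rw [c]; group
  rw [e]
  exact mul_mem (mem_pair (by decide)) (mem_pair (by decide))

theorem o39_56 : Orth chevE6 39 56 := orth_of (by decide +kernel)
theorem o39_36 : Orth chevE6 39 36 := orth_of (by decide +kernel)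
theorem o39_71 : Orth chevE6 39 71 := orth_of (by decide +kernel)
theorem o56_71 : Orth chevE6 56 71 := orth_of (by decide +kernel)
theorem o36_71 : Orth chevE6 36 71 := orth_of (by decide +kernel)
theorem o56_39 : Orth chevE6 56 39 := orth_of (by decide +kernel)
theorem o71_39 : Orth chevE6 71 39 := orth_of (by decide +kernel)
theorem o71_56 : Orth chevE6 71 56 := orth_of (by decide +kernel)
theorem o71_36 : Orth chevE6 71 36 := orth_of (by decide +kernel)

/-- **`²E₆(q)`, `q` even** -/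
theorem e6tTwo : Frame.RowE6tTwo := by
  intro K _ _ q a hq hc
  have h2 : (2 : K) = 0 := two_eq_zero (a := a * 2) (by rw [hc, hq, ← pow_mul])
  have : Fact (Nat.Prime 3) := ⟨Nat.prime_three⟩
  let x : Fin 3 → ↥(twistedE6 K q) :=
    ![⟨_, th39_mem⟩, ⟨_, thp_mem⟩, ⟨_, th71_mem h2⟩]
  have p39 : (39 : ℕ) < chevE6.nroots := by decide
  have p36 : (36 : ℕ) < chevE6.nroots := by decide
  have p56 : (56 : ℕ) < chevE6.nroots := by decide
  have p71 : (71 : ℕ) < chevE6.nroots := by decide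
  have c1 : Commute (x 0) (x 1) :=
    Subtype.ext ((o39_56.th_th hE (F := K)).mul_right (o39_36.th_th hE)).eq
  have c2 : Commute (x 0) (x 2) := Subtype.ext (o39_71.th_th hE (F := K)).eq
  have c3 : Commute (x 1) (x 2) :=
    Subtype.ext ((o56_71.th_th hE (F := K)).mul_left (o36_71.th_th hE)).eq
  refine not_of_pairs' 3 x (fun i => ?_) (fun i j => ?_) (twistedE6 K q).subtype
    ![xG hE 39 1, xG hE 56 1, xG hE 71 1] (fun i j hij => ?_) (fun i => ?_) (by decide)
  · fin_cases i
    · exact Subtype.ext (th_cube hE h2 p39)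
    · apply Subtype.ext
      show (th hE K 56 * th hE K 36) ^ 3 = 1
      rw [(o16.th_th hE (F := K)).mul_pow, th_cube hE h2 p56, th_cube hE h2 p36, mul_one]
    · exact Subtype.ext (th_cube hE h2 p71)
  · fin_cases i <;> fin_cases j
    · exact Commute.refl _
    · exact c1
    · exact c2
    · exact c1.symm
    · exact Commute.refl _
    · exact c3
    · exact c2.symm
    · exact c3.symm
    · exact Commute.refl _
  · fin_cases i <;> fin_cases j
    · exact absurd rfl hij
    · exact (o39_56.x_th hE (F := K)).mul_right (o39_36.x_th hE)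
    · exact o39_71.x_th hE
    · exact o56_39.x_th hE
    · exact absurd rfl hij
    · exact o56_71.x_th hE
    · exact o71_39.x_th hE
    · exact (o71_56.x_th hE (F := K)).mul_right (o71_36.x_th hE)
    · exact absurd rfl hij
  · fin_cases i
    · exact not_commute hE h2 (r := 39) (by decide +kernel) (by decide +kernel)
    · intro h
      have h1 : Commute (xG hE 56 (1 : K)) (th hE K 56 * th hE K 36) := h
      have h3 := h1.mul_right (o16.x_th hE (F := K)).inv_right
      rw [mul_inv_cancel_right] at h3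
      exact not_commute hE h2 (r := 56) (by decide +kernel) (by decide +kernel) h3
    · exact not_commute hE h2 (r := 71) (by decide +kernel) (by decide +kernel)

end Cfsg.Agent.Omega.SQK.Row.E6tTwo
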