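import Cfsg.Agent.Omega.SQK.Frame
import Cfsg.Agent.Cit.HexG2
import Cfsg.Agent.Cit.HexD4

/-!
# Rows `g2Odd`, `d4tOdd` of the table SQK : `⟨x₂(1), x₃(1), x₄(1)⟩`
-/

set_option autoImplicit false

namespace Cfsg.Agent.Omega.SQK.Row.HexOdd

open Cfsg Cfsg.Agent.Omega.SQK.Rank Cfsg.Agent.Cit Cfsg.Agent.Cit.HexBase

section hex

variable {E : Type*} [Field E] {σ : E ≃+* E} {L : Type*} [Group L] (c : HexGrp σ L)

theorem x2_pow (n : ℕ) : c.x2 1 ^ n = c.x2 (n : E) := by
  induction n with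
  | zero => rw [pow_zero, Nat.cast_zero, c.x2_zero]
  | succ n ih => rw [pow_succ, ih, Nat.cast_succ, c.x2_add (map_natCast σ n) (map_one σ)]

theorem x3_pow (n : ℕ) : c.x3 1 ^ n = c.x3 (n : E) := by
  induction n with
  | zero => rw [pow_zero, Nat.cast_zero, c.x3_zero]
  | succ n ih => rw [pow_succ, ih, Nat.cast_succ, c.x3_add]

theorem x4_pow (n : ℕ) : c.x4 1 ^ n = c.x4 (n : E) := by
  induction n with
  | zero => rw [pow_zero, Nat.cast_zero, c.x4_zero]
  | succ n ih => rw [pow_succ, ih, Nat.cast_succ, c.x4_add (map_natCast σ n) (map_one σ)]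

theorem comm_of_kk {G : Type*} [Group G] {a b : G} (h : SplitTwo.kk a b = 1) : Commute a b := by
  have h1 : a⁻¹ * b⁻¹ * a * b = 1 := h
  calc a * b = b * a * (a⁻¹ * b⁻¹ * a * b) := by group
    _ = b * a := by rw [h1, mul_one]

include c in
theorem not_prank (p : ℕ) [hp : Fact p.Prime] [CharP E p] : ¬ PRankLE p 2 L := by
  have : NeZero p := ⟨hp.out.ne_zero⟩
  let a : Fin 3 → L := ![c.x2 1, c.x3 1, c.x4 1]
  have hap : ∀ i, a i ^ p = 1 := by
    intro i
    fin_cases i
    · show c.x2 1 ^ p = 1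
      rw [x2_pow, CharP.cast_eq_zero, c.x2_zero]
    · show c.x3 1 ^ p = 1
      rw [x3_pow, CharP.cast_eq_zero, c.x3_zero]
    · show c.x4 1 ^ p = 1
      rw [x4_pow, CharP.cast_eq_zero, c.x4_zero]
  have h23 : Commute (c.x2 1) (c.x3 1) := comm_of_kk (c.par.rel.c23 1 1 (map_one σ))
  have h24 : Commute (c.x2 1) (c.x4 1) := comm_of_kk (c.par.rel.c24 1 1 (map_one σ) (map_one σ))
  have h34 : Commute (c.x3 1) (c.x4 1) := comm_of_kk (c.par.rel.c34 1 1 (map_one σ))
  have hc : ∀ i j, Commute (a i) (a j) := by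
    intro i j
    fin_cases i <;> fin_cases j
    · exact Commute.refl _
    · exact h23
    · exact h24
    · exact h23.symm
    · exact Commute.refl _
    · exact h34
    · exact h24.symm
    · exact h34.symm
    · exact Commute.refl _
  refine not_of_hom (homOf p a hap hc) ?_ (fun v => by funext i; simp) ?_
  · rw [injective_iff_map_eq_one]
    intro v hv
    have h1 := homOf_three p a hap hc (Multiplicative.toAdd v)
    rw [ofAdd_toAdd, hv] at h1
    have h2 : c.x2 1 ^ (Multiplicative.toAdd v 0).val * c.x3 1 ^ (Multiplicative.toAdd v 1).val *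
        c.x4 1 ^ (Multiplicative.toAdd v 2).val * 1 = 1 * 1 * 1 * 1 := by
      rw [mul_one, mul_one, mul_one, mul_one]
      exact h1.symm
    rw [x2_pow, x3_pow, x4_pow] at h2
    obtain ⟨k2, k3, k4, -⟩ := c.uniq25 (c.mem2 (map_natCast σ _)) (c.mem3 _) (c.mem4 (map_natCast σ _))
      (one_mem _) (one_mem _) (one_mem _) (one_mem _) (one_mem _) h2
    rw [← c.x2_zero] at k2
    rw [← c.x3_zero] at k3
    rw [← c.x4_zero] at k4
    have e2 := c.x2_inj (map_natCast σ _) (map_zero σ) k2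
    have e3 := c.x3_inj k3
    have e4 := c.x4_inj (map_natCast σ _) (map_zero σ) k4
    have key : ∀ z : ZMod p, ((z.val : ℕ) : E) = 0 → z = 0 := by
      intro z hz
      rw [CharP.cast_eq_zero_iff E p] at hz
      have := Nat.eq_zero_of_dvd_of_lt hz (ZMod.val_lt z)
      exact (ZMod.val_eq_zero z).1 this
    apply Multiplicative.toAdd.injective
    funext i
    fin_cases i
    · exact key _ e2
    · exact key _ e3
    · exact key _ e4
  · rw [Nat.card_eq_fintype_card, Fintype.card_fun, ZMod.card, Fintype.card_fin]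
    exact Nat.pow_lt_pow_right hp.out.one_lt (by norm_num)

end hex

/-- A field of order `r ^ a` has characteristic `r`. -/
theorem charP_of_card {F : Type} [Field F] [Fintype F] {r a : ℕ} (hr : r.Prime)
    (hc : Fintype.card F = r ^ a) : CharP F r := by
  obtain ⟨p, hp⟩ := CharP.exists F
  obtain ⟨n, hn, hcard⟩ := FiniteField.card F p
  rw [hc] at hcard
  have h1 : p ∣ r ^ a := by rw [hcard]; exact dvd_pow_self p n.2.ne'
  have h2 : p = r := (Nat.prime_dvd_prime_iff_eq hn hr).1 (hn.dvd_of_dvd_pow h1)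
  rwa [h2] at hp

theorem two_ne {F : Type} [Field F] {r : ℕ} (hr : r.Prime) (hr2 : r ≠ 2) (h : CharP F r) : (2 : F) ≠ 0 := by
  intro h2
  have h1 : ((2 : ℕ) : F) = 0 := by exact_mod_cast h2
  rw [CharP.cast_eq_zero_iff F r] at h1
  exact hr2 ((Nat.prime_dvd_prime_iff_eq hr Nat.prime_two).1 h1)

/-- **`G₂(q)`, `q` odd** -/
theorem g2Odd : Frame.RowG2Odd := by
  intro F _ _ r a hr hr2 hc
  have := charP_of_card hr hc
  have : Fact r.Prime := ⟨hr⟩
  exact not_prank (HexG2.g2 F (two_ne hr hr2 ‹_›)) r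

/-- **`³D₄(q)`, `q` odd** -/
theorem d4tOdd : Frame.RowD4tOdd := by
  intro K _ _ q r a hr hr2 hq hc
  have hc' : Fintype.card K = r ^ (a * 3) := by rw [hc, hq, ← pow_mul]
  have := charP_of_card hr hc'
  have : Fact r.Prime := ⟨hr⟩
  obtain ⟨σ, -, ⟨c⟩⟩ := HexD4.exists_d4 hc
  exact not_prank c r

end Cfsg.Agent.Omega.SQK.Row.HexOdd
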