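import Cfsg.Agent.Omega.SQK.Frame
import Cfsg.Agent.Omega.SQK.ReflThree
import Cfsg.Agent.LieClassical.OmegaReindex

/-!
Rows `PΩ^±_{2m}(q)`, `q` even, `m ≥ 4`.
-/

set_option autoImplicit false

namespace Cfsg.Agent.Omega.SQK.Row.OmegaTwo

open Cfsg Cfsg.Agent.Omega.SQK.Rank Cfsg.Agent.Omega.SQK.ReflThree QuadraticMap
open Cfsg.Agent.LieClassical.OrthForms Cfsg.Agent.LieClassical.OrthCore

variable {F : Type*} [Field F]

/-- Vectors with at most four nonzero coordinates, in `F^m ⊕ F^m`. -/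
def vec {m : ℕ} (i j : Fin m) (a b c d : F) : Fin m ⊕ Fin m → F :=
  Sum.elim (Pi.single i a + Pi.single j c) (Pi.single i b + Pi.single j d)

theorem plus_vec {m : ℕ} {i j : Fin m} (hij : i ≠ j) (a b c d : F) :
    plusForm m F (vec i j a b c d) = a * b + c * d := by
  rw [coe_plusForm, quadFormPlus_apply]
  simp only [vec, Sum.elim_inl, Sum.elim_inr, Pi.add_apply]
  rw [Finset.sum_eq_add_of_mem i j (Finset.mem_univ _) (Finset.mem_univ _) hij]
  · simp [hij, hij.symm]
  · intro k _ hk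
    simp [hk.1, hk.2]

theorem polar_vec {m : ℕ} {i j : Fin m} (hij : i ≠ j) (a b c d a' b' c' d' : F) :
    polar (plusForm m F) (vec i j a b c d) (vec i j a' b' c' d') =
      a * b' + a' * b + (c * d' + c' * d) := by
  rw [polar_plusForm]
  simp only [vec, Sum.elim_inl, Sum.elim_inr, Pi.add_apply]
  rw [Finset.sum_eq_add_of_mem i j (Finset.mem_univ _) (Finset.mem_univ _) hij]
  · simp [hij, hij.symm]
  · intro k _ hk
    simp [hk.1, hk.2]

theorem polar_vec_disj {m : ℕ} {i j k l : Fin m} (h1 : i ≠ k) (h2 : i ≠ l) (h3 : j ≠ k)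
    (h4 : j ≠ l) (a b c d a' b' c' d' : F) :
    polar (plusForm m F) (vec i j a b c d) (vec k l a' b' c' d') = 0 := by
  rw [polar_plusForm]
  simp only [vec, Sum.elim_inl, Sum.elim_inr, Pi.add_apply]
  refine Finset.sum_eq_zero fun x _ => ?_
  by_cases hi : x = i
  · subst hi
    simp [h1, h2]
  · by_cases hj : x = j
    · subst hj
      simp [h3, h4]
    · simp [hi, hj]

theorem plus_vec_same {m : ℕ} (i : Fin m) (a b : F) :
    plusForm m F (vec i i a b 0 0) = a * b := by
  rw [coe_plusForm, quadFormPlus_apply]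
  simp only [vec, Sum.elim_inl, Sum.elim_inr, Pi.add_apply]
  rw [Finset.sum_eq_single i]
  · simp
  · intro k _ hk
    simp [hk]
  · simp

theorem polar_vec_same {m : ℕ} (i : Fin m) (a b a' b' : F) :
    polar (plusForm m F) (vec i i a b 0 0) (vec i i a' b' 0 0) = a * b' + a' * b := by
  rw [polar_plusForm]
  simp only [vec, Sum.elim_inl, Sum.elim_inr, Pi.add_apply]
  rw [Finset.sum_eq_single i]
  · simp
  · intro k _ hk
    simp [hk]
  · simp

theorem two_eq_zero {F : Type} [Field F] [Fintype F] {n : ℕ} (h : Fintype.card F = 2 ^ n) :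
    (2 : F) = 0 := by
  have h1 : ((Fintype.card F : ℕ) : F) = 0 := FiniteField.cast_card_eq_zero F
  rw [h] at h1
  push_cast at h1
  exact eq_zero_of_pow_eq_zero h1

theorem plus : Frame.RowPlusTwo := by
  intro F _ _ n m hF hm
  have h2 := two_eq_zero hF
  have hnd := Cfsg.Agent.LieClassical.OmegaReindex.nondegenerate_of_left (plusForm m F)
    (nondeg_plusForm m F)
  have key : ∀ Q' : (Fin m ⊕ Fin m → F) → F, ⇑(plusForm m F) = Q' →
      ¬ PRankLE 3 2 (POmega F ⇑(plusForm m F)) → ¬ PRankLE 3 2 (POmega F Q') := by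
    rintro _ rfl h
    exact h
  refine key _ (coe_plusForm m F) ?_
  set i0 : Fin m := ⟨0, by omega⟩
  set i1 : Fin m := ⟨1, by omega⟩
  set i2 : Fin m := ⟨2, by omega⟩
  set i3 : Fin m := ⟨3, by omega⟩
  have h01 : i0 ≠ i1 := by simp [i0, i1]
  have h02 : i0 ≠ i2 := by simp [i0, i2]
  have h03 : i0 ≠ i3 := by simp [i0, i3]
  have h12 : i1 ≠ i2 := by simp [i1, i2]
  have h13 : i1 ≠ i3 := by simp [i1, i3]
  have h23 : i2 ≠ i3 := by simp [i2, i3]
  refine not_pRankLE (Q := plusForm m F) h2 hnd ?_ ⟨vec i0 i1 1 0 0 0, ?_, ?_⟩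
    ![vec i0 i1 1 1 0 0, vec i0 i1 1 1 1 0, vec i2 i3 1 1 0 0]
    ![vec i0 i1 0 1 1 1, vec i0 i1 1 1 0 1, vec i2 i3 0 1 1 1] ?_ ?_ ?_ ?_ ?_ ?_
  · rw [Fintype.card_sum, Fintype.card_fin]
    omega
  · intro h
    have := congrFun h (Sum.inl i0)
    simp [vec] at this
  · rw [plus_vec h01]
    simp
  · intro i
    fin_cases i
    · simp [plus_vec h01]
    · simp [plus_vec h01]
    · simp [plus_vec h23]
  · intro i
    fin_cases i
    · simp [plus_vec h01]
    · simp [plus_vec h01]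
    · simp [plus_vec h23]
  · intro i
    fin_cases i
    · simp [polar_vec h01]
    · simp only [Fin.mk_one, Matrix.cons_val_one, Matrix.cons_val_zero, polar_vec h01]
      linear_combination h2
    · simp [polar_vec h23]
  all_goals
    intro i j hij
    fin_cases i <;> fin_cases j <;> first
      | exact absurd rfl hij
      | (simp only [Fin.zero_eta, Fin.mk_one, Fin.reduceFinMk, Matrix.cons_val_one,
          Matrix.cons_val_zero, Matrix.cons_val, polar_vec h01,
          polar_vec_disj h02 h03 h12 h13,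
          polar_vec_disj h02.symm h12.symm h03.symm h13.symm]
         try linear_combination h2)

/-- Vectors of the minus type space. -/
def mvec {k : ℕ} (x : Fin k ⊕ Fin k → F) (y z : F) : (Fin k ⊕ Fin k) ⊕ Fin 2 → F :=
  Sum.elim x ![y, z]

theorem minus_mvec {k : ℕ} (a b : F) (x : Fin k ⊕ Fin k → F) (y z : F) :
    minusForm k F a b (mvec x y z) = plusForm k F x + (y ^ 2 + a * y * z + b * z ^ 2) := by
  rw [coe_minusForm, coe_plusForm]
  rfl

theorem polar_mvec {k : ℕ} (a b : F) (x x' : Fin k ⊕ Fin k → F) (y z y' z' : F) :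
    polar (minusForm k F a b) (mvec x y z) (mvec x' y' z') = polar (plusForm k F) x x' +
      (2 * y * y' + a * (y * z' + z * y') + 2 * b * z * z') := by
  rw [polar_minusForm, polar_plusForm]
  rfl

theorem polar_vec_disj' {k : ℕ} {i j l : Fin k} (h1 : i ≠ l) (h3 : j ≠ l)
    (a b c d a' b' : F) :
    polar (plusForm k F) (vec i j a b c d) (vec l l a' b' 0 0) = 0 :=
  polar_vec_disj h1 h1 h3 h3 _ _ _ _ _ _ _ _

theorem polar_vec_disj'' {k : ℕ} {i j l : Fin k} (h1 : l ≠ i) (h3 : l ≠ j)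
    (a b c d a' b' : F) :
    polar (plusForm k F) (vec l l a' b' 0 0) (vec i j a b c d) = 0 :=
  polar_vec_disj h1 h3 h1 h3 _ _ _ _ _ _ _ _

theorem minus_aux (F : Type) [Field F] [Fintype F] (k : ℕ) (a b : F) (h2 : (2 : F) = 0)
    (hk : 3 ≤ k) (hab : ∀ z₁ z₂ : F, z₁ ^ 2 + a * z₁ * z₂ + b * z₂ ^ 2 = 0 → z₁ = 0 ∧ z₂ = 0) :
    ¬ PRankLE 3 2 (POmega F (quadFormMinus k F a b)) := by
  have hnd := Cfsg.Agent.LieClassical.OmegaReindex.nondegenerate_of_left (minusForm k F a b)
    (nondeg_minusForm k F a b hab)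
  have key : ∀ Q' : ((Fin k ⊕ Fin k) ⊕ Fin 2 → F) → F, ⇑(minusForm k F a b) = Q' →
      ¬ PRankLE 3 2 (POmega F ⇑(minusForm k F a b)) → ¬ PRankLE 3 2 (POmega F Q') := by
    rintro _ rfl h
    exact h
  refine key _ (coe_minusForm k F a b) ?_
  set i0 : Fin k := ⟨0, by omega⟩
  set i1 : Fin k := ⟨1, by omega⟩
  set i2 : Fin k := ⟨2, by omega⟩
  have h01 : i0 ≠ i1 := by simp [i0, i1]
  have h02 : i0 ≠ i2 := by simp [i0, i2]
  have h12 : i1 ≠ i2 := by simp [i1, i2]
  refine not_pRankLE (Q := minusForm k F a b) h2 hnd ?_ ⟨mvec (vec i0 i1 1 0 0 0) 0 0, ?_, ?_⟩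
    ![mvec (vec i0 i1 1 1 0 0) 0 0, mvec (vec i0 i1 1 1 1 0) 0 0, mvec (vec i2 i2 1 1 0 0) 0 0]
    ![mvec (vec i0 i1 0 1 1 1) 0 0, mvec (vec i0 i1 1 1 0 1) 0 0, mvec (vec i2 i2 0 1 0 0) 1 0]
    ?_ ?_ ?_ ?_ ?_ ?_
  · rw [Fintype.card_sum, Fintype.card_sum, Fintype.card_fin]
    omega
  · intro h
    have := congrFun h (Sum.inl (Sum.inl i0))
    simp [mvec, vec] at this
  · rw [minus_mvec, plus_vec h01]
    simp
  · intro i
    fin_cases i
    · simp [minus_mvec, plus_vec h01]
    · simp [minus_mvec, plus_vec h01]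
    · simp [minus_mvec, plus_vec_same]
  · intro i
    fin_cases i
    · simp [minus_mvec, plus_vec h01]
    · simp [minus_mvec, plus_vec h01]
    · simp [minus_mvec, plus_vec_same]
  · intro i
    fin_cases i
    · simp [polar_mvec, polar_vec h01]
    · simp only [Fin.mk_one, Matrix.cons_val_one, Matrix.cons_val_zero, polar_mvec, polar_vec h01]
      linear_combination h2
    · simp [polar_mvec, polar_vec_same]
  all_goals
    intro i j hij
    fin_cases i <;> fin_cases j <;> first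
      | exact absurd rfl hij
      | (simp only [Fin.zero_eta, Fin.mk_one, Fin.reduceFinMk, Matrix.cons_val_one,
          Matrix.cons_val_zero, Matrix.cons_val, polar_mvec, polar_vec h01,
          polar_vec_disj' h02 h12, polar_vec_disj'' h02.symm h12.symm]
         try ring_nf
         try linear_combination h2)

theorem minus : Frame.RowMinusTwo := fun F _ _ _ m a b hF hm hab =>
  minus_aux F (m - 1) a b (two_eq_zero hF) (by omega) hab

end Cfsg.Agent.Omega.SQK.Row.OmegaTwo
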