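import Cfsg.Agent.Omega.SQK.Frame
import Cfsg.Agent.Omega.SQK.Torus
import Cfsg.Agent.LieClassical.SUBasic

/-!
Row `PSU_n(q)`, `q` even, `n ≥ 4`.
-/

set_option autoImplicit false

namespace Cfsg.Agent.Omega.SQK.Row.PSUTwo

open Cfsg Cfsg.Agent.Omega.SQK.Rank Cfsg.Agent.Omega.SQK.Torus Cfsg.Agent.LieClassical.SUBasic

variable {F : Type*} [Field F]

/-- The torus. -/
def tor {p n : ℕ} (q : ℕ) (hn : 4 ≤ n) (u : Fˣ) (hu : u ^ p = 1) (hq : p ∣ q + 1) :
    Multiplicative (Fin 3 → ZMod p) →* SU n F q where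
  toFun v := suDiag q (fun i => ch p u hu (wt hn v.toAdd i)) (by
      rw [ch_sum, sum_wt, ch_zero]) (fun i => by
      obtain ⟨k, hk⟩ := hq
      rw [ch_pow, hk, mul_smul]
      simp [ch_zero])
  map_one' := by
    apply Subtype.ext
    apply Subtype.ext
    show Matrix.diagonal (fun i => ch p u hu (wt hn (0 : Fin 3 → ZMod p) i)) = 1
    simp [wt_zero, ch_zero]
  map_mul' v w := by
    apply Subtype.ext
    apply Subtype.ext
    show Matrix.diagonal (fun i => ch p u hu (wt hn (v.toAdd + w.toAdd) i)) =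
      Matrix.diagonal (fun i => ch p u hu (wt hn v.toAdd i)) *
        Matrix.diagonal (fun i => ch p u hu (wt hn w.toAdd i))
    rw [Matrix.diagonal_mul_diagonal]
    congr 1
    funext i
    rw [wt_add, Pi.add_apply, ch_add]

theorem row : Frame.RowPSUTwo := by
  intro F _ _ q a n hq hF hn
  have hq1 : q + 1 ≠ 1 := by
    have : 0 < 2 ^ a := by positivity
    omega
  obtain ⟨p, hp, hpd⟩ := Nat.exists_prime_and_dvd hq1
  have : Fact p.Prime := ⟨hp⟩
  have hq2 : 2 ≤ q := by
    have h1 : 1 < Fintype.card F := Fintype.one_lt_card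
    rw [hF] at h1
    by_contra hcon
    have : q = 0 ∨ q = 1 := by omega
    rcases this with rfl | rfl <;> simp at h1
  have hp2 : p ≠ 2 := by
    rintro rfl
    have h1 : 2 ∣ q := by
      rw [hq]
      refine dvd_pow_self 2 ?_
      rintro rfl
      rw [pow_zero] at hq
      omega
    omega
  refine ⟨p, hp, hp2, ?_⟩
  have hd : p ∣ Nat.card F - 1 := by
    rw [Nat.card_eq_fintype_card, hF]
    have hfac : q ^ 2 - 1 = (q + 1) * (q - 1) := by
      have := Nat.sq_sub_sq q 1
      simpa using this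
    rw [hfac]
    exact Dvd.dvd.mul_right hpd _
  obtain ⟨u, hu, hu1⟩ := exists_unit (F := F) hd
  refine not_quot_of_hom (Subgroup.center (SU n F q)) (tor q hn u hu hpd) ?_ ?_ ?_
  · intro v hv
    obtain ⟨c, hcn, hcq, hc⟩ := (mem_center_SU_iff hF (by omega) _).1 hv
    refine eq_zero_of_const hp2 hn v ?_
    have key : ∀ i, ch p u hu (wt hn v i) = c := by
      intro i
      have h1 : Matrix.diagonal (fun i => ch p u hu (wt hn v i)) =
          Matrix.diagonal (fun _ : Fin n => c) := congrArg
        (fun A : SU n F q => ((A : Matrix.SpecialLinearGroup (Fin n) F) : Matrix (Fin n) (Fin n) F))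
        hc
      have := congrFun (congrFun h1 i) i
      simpa using this
    intro i j
    exact ch_injective u hu hu1 ((key i).trans (key j).symm)
  · intro v
    funext i
    simp
  · rw [Nat.card_eq_fintype_card, Fintype.card_fun, ZMod.card, Fintype.card_fin]
    exact Nat.pow_lt_pow_right hp.one_lt (by norm_num)

end Cfsg.Agent.Omega.SQK.Row.PSUTwo
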