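import Cfsg.Agent.Omega.SQK.Row.RowOmegaOdd
import Cfsg.Agent.Omega.Quasithin.Row.OmegaMinus

/-!
# Row `minusOdd` of the table SQK
-/

set_option autoImplicit false

namespace Cfsg.Agent.Omega.SQK.Row.RowMinusOdd

theorem row : Frame.RowMinusOdd := by
  intro F _ _ r n m a b hr hr2 hc hm hab
  have := RowOmegaOdd.charP_of_card hr hc
  have : Fact r.Prime := ⟨hr⟩
  exact Cfsg.Agent.Omega.Quasithin.Row.OmegaMinus.not_prank r F (m - 1) (by omega) a b hab

end Cfsg.Agent.Omega.SQK.Row.RowMinusOdd
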