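import Cfsg.Agent.Omega.SQK.Frame
import Cfsg.Agent.Omega.Quasithin.Row.OmegaOdd

/-!
# Row `omegaOdd` of the table SQK
-/

set_option autoImplicit false

namespace Cfsg.Agent.Omega.SQK.Row.RowOmegaOdd

/-- A field of order `r ^ a` has characteristic `r`. -/
theorem charP_of_card {F : Type} [Field F] [Fintype F] {r a : ℕ} (hr : r.Prime)
    (hc : Fintype.card F = r ^ a) : CharP F r := by
  obtain ⟨p, hp⟩ := CharP.exists F
  obtain ⟨n, hn, hcard⟩ := FiniteField.card F p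
  rw [hc] at hcard
  have h1 : p ∣ r ^ a := by rw [hcard]; exact dvd_pow_self p n.2.ne'
  have h2 : p = r := (Nat.prime_dvd_prime_iff_eq hn hr).1 (hn.dvd_of_dvd_pow h1)
  rwa [h2] at hp

theorem two_ne {F : Type} [Field F] {r : ℕ} (hr : r.Prime) (hr2 : r ≠ 2) (h : CharP F r) : (2 : F) ≠ 0 := by
  intro h2
  have h1 : ((2 : ℕ) : F) = 0 := by exact_mod_cast h2
  rw [CharP.cast_eq_zero_iff F r] at h1
  exact hr2 ((Nat.prime_dvd_prime_iff_eq hr Nat.prime_two).1 h1)

theorem row : Frame.RowOmegaOdd := by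
  intro F _ _ r a m hr hr2 hc hm
  have := charP_of_card hr hc
  have : Fact r.Prime := ⟨hr⟩
  exact Cfsg.Agent.Omega.Quasithin.Row.OmegaOdd.not_prank r F m hm (two_ne hr hr2 ‹_›)

end Cfsg.Agent.Omega.SQK.Row.RowOmegaOdd
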