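import Cfsg.Agent.Omega.SQK.Row.RowOmegaOdd
import Cfsg.Agent.Omega.Quasithin.Row.OmegaPlus

/-!
# Row `plusOdd` of the table SQK
-/

set_option autoImplicit false

namespace Cfsg.Agent.Omega.SQK.Row.RowPlusOdd

theorem row : Frame.RowPlusOdd := by
  intro F _ _ r a m hr hr2 hc hm
  have := RowOmegaOdd.charP_of_card hr hc
  have : Fact r.Prime := ⟨hr⟩
  exact Cfsg.Agent.Omega.Quasithin.Row.OmegaPlus.not_prank r F m hm

end Cfsg.Agent.Omega.SQK.Row.RowPlusOdd
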