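import Cfsg.Agent.Omega.SQK.Row.SporOne
import Cfsg.Agent.Omega.Quasithin.Row.HN
import Cfsg.Agent.Omega.Quasithin.Row.J3
import Cfsg.Agent.Omega.Quasithin.Row.Suz
import Cfsg.Agent.Omega.Quasithin.Row.Th

/-!
The fifteen sporadic groups outside the list have 3-rank at least 3: the row `RowSpor` of the list SQK.
-/

set_option autoImplicit false

namespace Cfsg.Agent.Omega.SQK.Row.SporFour

open Cfsg Cfsg.Spor Cfsg.Agent.Omega.Quasithin.Row Cfsg.Agent.Omega.Quasithin.Row.E27

universe u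

variable {X : Type u} [Group X] [Finite X]

theorem hn (hs : IsSimpleGroup X) (h : IsoHN X) : ¬ PRankLE 3 2 X := by
  obtain ⟨e⟩ := h
  have hn : Nontrivial HN := e.symm.toEquiv.nontrivial
  have hs' : IsSimpleGroup HN := IsSimpleGroup.isSimpleGroup_of_surjective e.toMonoidHom e.surjective
  exact fun h1 => HN.not_rank_HN (prank_of_injective e.symm.toMonoidHom e.symm.injective h1)

/-- Row: the fifteen groups. -/
theorem row : Frame.RowSpor.{u} := by
  intro X _ _ hs hna h
  refine ⟨3, Nat.prime_three, by norm_num, ?_⟩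
  rcases h with h | h | h | h | h | h | h | h | h | h | h | h | h | h | h
  · exact J3.row_j3 X h
  · exact SporOne.rows hs hna (Or.inl h)
  · exact SporOne.rows hs hna (Or.inr (Or.inl h))
  · exact SporOne.rows hs hna (Or.inr (Or.inr (Or.inl h)))
  · exact SporOne.rows hs hna (Or.inr (Or.inr (Or.inr (Or.inl h))))
  · exact Suz.row_suz X h
  · exact SporOne.rows hs hna (Or.inr (Or.inr (Or.inr (Or.inr (Or.inl h)))))
  · exact SporOne.rows hs hna (Or.inr (Or.inr (Or.inr (Or.inr (Or.inr (Or.inl h))))))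
  · exact SporOne.rows hs hna (Or.inr (Or.inr (Or.inr (Or.inr (Or.inr (Or.inr (Or.inl h)))))))
  · exact SporOne.rows hs hna (Or.inr (Or.inr (Or.inr (Or.inr (Or.inr (Or.inr (Or.inr (Or.inl h))))))))
  · exact SporOne.rows hs hna
      (Or.inr (Or.inr (Or.inr (Or.inr (Or.inr (Or.inr (Or.inr (Or.inr (Or.inl h)))))))))
  · exact hn hs h
  · exact Th.row_th X h
  · exact SporOne.rows hs hna
      (Or.inr (Or.inr (Or.inr (Or.inr (Or.inr (Or.inr (Or.inr (Or.inr (Or.inr (Or.inl h))))))))))
  · exact SporOne.rows hs hna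
      (Or.inr (Or.inr (Or.inr (Or.inr (Or.inr (Or.inr (Or.inr (Or.inr (Or.inr (Or.inr h))))))))))

end Cfsg.Agent.Omega.SQK.Row.SporFour
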