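import Cfsg.Agent.Omega.SQK.Frame
import Cfsg.Agent.Omega.Quasithin.Row.Chev

/-!
# Rows `chevOdd`, `e6tOdd`, `ree` of the table SQK (from helper482's `Quasithin/Row/Chev`)
-/

set_option autoImplicit false

namespace Cfsg.Agent.Omega.SQK.Row.ChevOdd

open Cfsg Cfsg.Lie Cfsg.Agent.ChevalleyStructure.Elts Cfsg.Agent.Omega.Quasithin.Row

/-- A field of order `r ^ a` has characteristic `r`. -/
theorem charP_of_card {F : Type} [Field F] [Fintype F] {r a : ℕ} (hr : r.Prime)
    (hc : Fintype.card F = r ^ a) : CharP F r := by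
  obtain ⟨p, hp⟩ := CharP.exists F
  obtain ⟨n, hn, hcard⟩ := FiniteField.card F p
  rw [hc] at hcard
  have h1 : p ∣ r ^ a := by rw [hcard]; exact dvd_pow_self p n.2.ne'
  have h2 : p = r := (Nat.prime_dvd_prime_iff_eq hn hr).1 (hn.dvd_of_dvd_pow h1)
  rwa [h2] at hp

/-- **`F₄(q)`, `E₆(q)`, `E₇(q)`, `E₈(q)`, `q` odd** -/
theorem chevOdd : Frame.RowChevOdd := by
  intro D hD F _ _ r a hr _ hc
  have := charP_of_card hr hc
  simp only [List.mem_cons, List.not_mem_nil, or_false] at hD
  rcases hD with rfl | rfl | rfl | rfl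
  · exact Chev.not_chev (by simp only [InList, List.mem_cons, true_or, or_true]) Chev.three_F4 hr
  · exact Chev.not_chev (by simp only [InList, List.mem_cons, true_or, or_true]) Chev.three_E6 hr
  · exact Chev.not_chev (by simp only [InList, List.mem_cons, true_or, or_true]) Chev.three_E7 hr
  · exact Chev.not_chev (by simp only [InList, List.mem_cons, true_or, or_true]) Chev.three_E8 hr

/-- **`²E₆(q)`, `q` odd** -/
theorem e6tOdd : Frame.RowE6tOdd := by
  intro K _ _ q r a hr _ hq hc
  have hc' : Fintype.card K = r ^ (a * 2) := by rw [hc, hq, ← pow_mul]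
  have := charP_of_card hr hc'
  have ha : a ≠ 0 := by
    rintro rfl
    have h1 : 1 < Fintype.card K := Fintype.one_lt_card
    rw [hc', zero_mul, pow_zero] at h1
    omega
  exact Chev.not_twistedE6 hr ((isPrimePow_nat_iff q).2 ⟨r, a, hr, Nat.pos_of_ne_zero ha, hq.symm⟩) hc

/-- **Ree groups** -/
theorem ree : Frame.RowRee := by
  intro K _ _ m hm hc
  exact Chev.not_ree hm hc

end Cfsg.Agent.Omega.SQK.Row.ChevOdd
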