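import Cfsg.Agent.Omega.SQK.Frame
import Cfsg.Agent.Omega.Quasithin.Row.Cox
import Cfsg.Agent.Omega.Quasithin.Row.Ly
import Cfsg.Agent.Omega.Quasithin.Row.McL
import Cfsg.Agent.Omega.Quasithin.Row.ON

/-!
The sporadic groups `McL`, `Co₁`, `Co₂`, `Co₃`, `Ly`, `ON`, `Fi22`, `Fi23`, `Fi24'`, `B`, `M` have 3-rank at least 3
(no existence or order fact is needed: the group in question is given as a finite nonabelian simple group).
-/

set_option autoImplicit false

namespace Cfsg.Agent.Omega.SQK.Row.SporOne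

open Cfsg Cfsg.Spor Cfsg.Agent.Omega.Quasithin.Row Cfsg.Agent.Omega.Quasithin.Row.E27

universe u

theorem not_comm {X : Type*} {Y : Type*} [Group X] [Group Y] (e : X ≃* Y) (hna : ¬ IsMulCommutative X) :
    ¬ ∀ a b : Y, a * b = b * a := by
  intro h
  refine hna ⟨⟨fun a b => e.injective ?_⟩⟩
  rw [map_mul, map_mul]
  exact h _ _

theorem exists_ne_one {X : Type*} {Y : Type*} [Group X] [Group Y] (e : X ≃* Y)
    (hna : ¬ IsMulCommutative X) : ∃ y : Y, y ≠ 1 := by
  by_contra! h
  exact not_comm e hna fun a b => by rw [h a, h b]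

variable {X : Type u} [Group X] [Finite X]

theorem fi22 (hna : ¬ IsMulCommutative X) (h : IsoFi22 X) : ¬ PRankLE 3 2 X := by
  obtain ⟨e⟩ := h
  have hf : Finite Fi22 := Finite.of_equiv _ e.toEquiv
  exact fun h1 => Cox.Fi22_row (not_comm e hna) (prank_of_injective e.symm.toMonoidHom e.symm.injective h1)

theorem fi23 (hna : ¬ IsMulCommutative X) (h : IsoFi23 X) : ¬ PRankLE 3 2 X := by
  obtain ⟨e⟩ := h
  have hf : Finite Fi23 := Finite.of_equiv _ e.toEquiv
  exact fun h1 => Cox.Fi23_row (not_comm e hna) (prank_of_injective e.symm.toMonoidHom e.symm.injective h1)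

theorem b (hna : ¬ IsMulCommutative X) (h : IsoB X) : ¬ PRankLE 3 2 X := by
  obtain ⟨e⟩ := h
  have hf : Finite BabyMonster := Finite.of_equiv _ e.toEquiv
  exact fun h1 => Cox.BabyMonster_row (not_comm e hna)
    (prank_of_injective e.symm.toMonoidHom e.symm.injective h1)

theorem fi24 (hna : ¬ IsMulCommutative X) (h : IsoFi24' X) : ¬ PRankLE 3 2 X := by
  obtain ⟨e⟩ := h
  have hf : Finite Fi24' := Finite.of_equiv _ e.toEquiv
  obtain ⟨x, hx⟩ := exists_ne_one e hna
  exact fun h1 => Cox.Fi24'_row (Cox.not_comm_of_commutator x.2 fun h2 => hx (Subtype.ext h2))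
    (prank_of_injective e.symm.toMonoidHom e.symm.injective h1)

theorem m (hna : ¬ IsMulCommutative X) (h : IsoM X) : ¬ PRankLE 3 2 X := by
  obtain ⟨e⟩ := h
  have hf : Finite Monster := Finite.of_equiv _ e.toEquiv
  obtain ⟨x, hx⟩ := exists_ne_one e hna
  exact fun h1 => Cox.Monster_row (Cox.not_comm_of_commutator x.2.2 fun h2 => hx (Subtype.ext h2))
    (prank_of_injective e.symm.toMonoidHom e.symm.injective h1)

theorem on (hs : IsSimpleGroup X) (h : IsoON X) : ¬ PRankLE 3 2 X := by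
  obtain ⟨e⟩ := h
  have hn : Nontrivial ON := e.symm.toEquiv.nontrivial
  have hs' : IsSimpleGroup ON := IsSimpleGroup.isSimpleGroup_of_surjective e.toMonoidHom e.surjective
  exact ON.main hs' X e

/-- The eleven groups. -/
theorem rows (hs : IsSimpleGroup X) (hna : ¬ IsMulCommutative X)
    (h : IsoCo1 X ∨ IsoCo2 X ∨ IsoCo3 X ∨ IsoMcL X ∨ IsoON X ∨ IsoLy X ∨ IsoFi22 X ∨ IsoFi23 X ∨
      IsoFi24' X ∨ IsoB X ∨ IsoM X) : ¬ PRankLE 3 2 X := by
  rcases h with h | h | h | h | h | h | h | h | h | h | h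
  · exact McL.row_co1 X h
  · exact McL.row_co2 X h
  · exact McL.row_co3 X h
  · exact McL.row_mcl X h
  · exact on hs h
  · exact Ly.row_ly X h
  · exact fi22 hna h
  · exact fi23 hna h
  · exact fi24 hna h
  · exact b hna h
  · exact m hna h

end Cfsg.Agent.Omega.SQK.Row.SporOne
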